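import Groth.Agent.EtAcycX.CompBC
import Groth.Agent.EtAcycX.KilledColim
import Groth.Agent.EtAcycX.ZDimComp
import Groth.Agent.EtCons.IndCons
import Groth.Agent.EtEmbFin.Main
import Groth.Agent.EtIntegral.Push
import Groth.Agent.EtIntegral.BaseChange
import Mathlib

/-!
Comparison of cohomology from finite schemes with constant coefficients.
-/

set_option autoImplicit false
set_option backward.isDefEq.respectTransparency false
set_option backward.isDefEq.respectTransparency.types false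
set_option linter.unusedSectionVars false
set_option linter.auxLemma false
set_option linter.overlappingInstances false
set_option linter.style.haveILetI false
set_option maxHeartbeats 1000000

universe u

open CategoryTheory CategoryTheory.Limits CategoryTheory.Abelian AlgebraicGeometry Opposite

noncomputable section

namespace Groth.Agent.EtFinCrit

attribute [local instance 100000] EtCoh.H._proof_1 Groth.Agent.EtMV.hext
attribute [local instance 200000] Groth.Agent.EtMV.hextAb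
attribute [local instance 300000] CategoryTheory.Preadditive.preadditiveHasZeroMorphisms
  CategoryTheory.Abelian.toPreadditive

open EtAcycX (Kd Hpull_comp_mk₀ Hpull_comp_extClass)

variable {X Y : Scheme.{u}} (h : Y ⟶ X) [PreservesFiniteLimits (EtCoh.pull h)]

/-- injective in degree zero and surjective up to degree `n` -/
def Good (n : ℕ) (G : EtCoh.Ab X) : Prop :=
  Function.Injective (EtCore.Hpull h G 0) ∧ ∀ i ≤ n, Function.Surjective (EtCore.Hpull h G i)

theorem Good.biproduct {n : ℕ} {ι : Type} [Fintype ι] (G : ι → EtCoh.Ab X) (hG : ∀ i, Good h n (G i)) :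
    Good h n (⨁ G) := by
  classical
  have key : ∀ (q : ℕ) (x : EtCoh.H X (⨁ G) q),
      x = ∑ i, (Ext.comp x (Ext.mk₀ (biproduct.π G i)) (add_zero q)).comp (Ext.mk₀ (biproduct.ι G i)) (add_zero q) := by
    intro q x
    have e : ∀ i, (Ext.comp x (Ext.mk₀ (biproduct.π G i)) (add_zero q)).comp (Ext.mk₀ (biproduct.ι G i)) (add_zero q) =
        Ext.comp x (Ext.mk₀ (biproduct.π G i ≫ biproduct.ι G i)) (add_zero q) := fun i => by
      rw [Ext.comp_assoc_of_second_deg_zero, Ext.mk₀_comp_mk₀]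
    rw [Finset.sum_congr rfl (fun i _ => e i), ← Ext.comp_sum, ← Ext.mk₀_sum, biproduct.total, Ext.comp_mk₀_id]
  refine ⟨(injective_iff_map_eq_zero _).2 fun x hx => ?_, fun q hq y => ?_⟩
  · rw [key 0 x]
    refine Finset.sum_eq_zero fun i _ => ?_
    have h0 : Ext.comp x (Ext.mk₀ (biproduct.π G i)) (add_zero 0) = 0 :=
      (injective_iff_map_eq_zero _).1 (hG i).1 _ ((Hpull_comp_mk₀ h x _).trans (by rw [hx, Ext.zero_comp]))
    rw [h0, Ext.zero_comp]
  · choose x hx using fun i => (hG i).2 q hq (Ext.comp y (Ext.mk₀ ((EtCoh.pull h).map (biproduct.π G i))) (add_zero q))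
    refine ⟨∑ i, Ext.comp (x i) (Ext.mk₀ (biproduct.ι G i)) (add_zero q), ?_⟩
    rw [map_sum]
    refine (Finset.sum_congr rfl (g := fun i => Ext.comp y
        (Ext.mk₀ ((EtCoh.pull h).map (biproduct.π G i ≫ biproduct.ι G i))) (add_zero q))
      fun i _ => (Hpull_comp_mk₀ h (x i) _).trans ?_).trans ?_
    · rw [hx, Ext.comp_assoc_of_second_deg_zero, Ext.mk₀_comp_mk₀, ← Functor.map_comp]
    · rw [← Ext.comp_sum, ← Ext.mk₀_sum, ← Functor.map_sum, biproduct.total, CategoryTheory.Functor.map_id, Ext.comp_mk₀_id]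

/-- finite direct images -/
theorem good_push {X' : Scheme.{u}} (p : X' ⟶ X) [IsFinite p] (n : ℕ) (M : Type) [AddCommGroup M]
    [PreservesFiniteLimits (EtCoh.pull (pullback.fst p h))]
    (hM : Function.Injective (EtCore.Hpull (pullback.fst p h) (EtCoh.const X' M) 0) ∧
      ∀ i ≤ n, Function.Surjective (EtCore.Hpull (pullback.fst p h) (EtCoh.const X' M) i)) :
    Good h n ((EtCoh.push p).obj (EtCoh.const X' M)) := by
  haveI : IsFinite (pullback.snd p h) := inferInstance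
  haveI := EtCohDesc.pull_preservesFiniteLimits p
  haveI := EtCohDesc.pull_preservesFiniteLimits (pullback.snd p h)
  let G := EtCoh.const X' M
  haveI : IsIso (EtCoh.baseChange0 p h (pullback.snd p h) (pullback.fst p h) pullback.condition G) :=
    EtIntegral.isIso_baseChange0 p h (pullback.snd p h) (pullback.fst p h) (IsPullback.of_hasPullback p h) G
  let b := EtCoh.baseChange0 p h (pullback.snd p h) (pullback.fst p h) pullback.condition G
  have e1 : ∀ k, Function.Bijective (EtLim.HofPush p G k) :=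
    fun k => EtMV.HofPush_bijective p G (fun q => EtIntegral.Rpush_succ_isZero p G q) k
  have e2 : ∀ k, Function.Bijective (EtLim.HofPush (pullback.snd p h) ((EtCoh.pull (pullback.fst p h)).obj G) k) :=
    fun k => EtMV.HofPush_bijective _ _ (fun q => EtIntegral.Rpush_succ_isZero _ _ q) k
  have hb : ∀ k, Function.Bijective ((EtCoh.HF Y k).map b).hom := fun k =>
    (ConcreteCategory.isIso_iff_bijective ((EtCoh.HF Y k).map b)).1 inferInstance
  have sq := fun k => EtAcycX.Hpull_HofPush p h (pullback.snd p h) (pullback.fst p h) pullback.condition G k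
  refine ⟨fun a a' ha => (e1 0).1 (hM.1 ?_), fun k hk y => ?_⟩
  · rw [sq 0 a, sq 0 a', ha]
  · obtain ⟨x', hx'⟩ := hM.2 k hk (EtLim.HofPush _ _ k (((EtCoh.HF Y k).map b).hom y))
    obtain ⟨x, rfl⟩ := (e1 k).2 x'
    exact ⟨x, (hb k).1 ((e2 k).1 ((sq k x).symm.trans hx'))⟩

variable (L : Set ℕ) (n : ℕ)

/-- every constructible sheaf killed by an admissible integer embeds into a good one -/
def HasGood : Prop :=
  ∀ (m : ℕ), EtAcyc.PrimesIn L m → ∀ F : EtCoh.Ab X, EtPBC.IsConstructible F → Kd m F →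
    ∃ (G : EtCoh.Ab X) (φ : F ⟶ G), Mono φ ∧ Good h n G ∧ EtAcyc.IsLTorsion L G

theorem kd_biproduct {ι : Type} [Fintype ι] (G : ι → EtCoh.Ab X) (m : ι → ℕ) (hm : ∀ i, EtAcyc.PrimesIn L (m i))
    (hG : ∀ i, Kd (m i) (G i)) : EtAcyc.IsLTorsion L (⨁ G) := by
  classical
  refine Kd.isLTorsion (m := ∏ i, m i) ⟨Finset.prod_pos fun i _ => (hm i).1, fun p hp hd => ?_⟩ ?_
  · obtain ⟨i, -, hi⟩ := (hp.prime.dvd_finsetProd_iff m).1 hd
    exact (hm i).2 p hp hi
  · unfold Kd
    rw [← biproduct.total, Finset.smul_sum]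
    refine Finset.sum_eq_zero fun i hi => ?_
    obtain ⟨d, hd⟩ := Finset.dvd_prod_of_mem m hi
    rw [hd, mul_comm, mul_nsmul']
    rw [show m i • (biproduct.π G i ≫ biproduct.ι G i) = biproduct.π G i ≫ (m i • 𝟙 (G i)) ≫ biproduct.ι G i by
      rw [Preadditive.nsmul_comp, Category.id_comp, Preadditive.comp_nsmul], hG i, zero_comp, comp_zero, smul_zero]

theorem eq_zero_of_coprime {A B : EtCoh.Ab X} {a b : ℕ} (hab : Nat.Coprime a b) (hA : Kd a A) (hB : Kd b B)
    (φ : A ⟶ B) : φ = 0 := by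
  have h1 : a • φ = 0 := by
    rw [show a • φ = (a • 𝟙 A) ≫ φ by rw [Preadditive.nsmul_comp, Category.id_comp], hA, zero_comp]
  have h2 : b • φ = 0 := by
    rw [show b • φ = φ ≫ (b • 𝟙 B) by rw [Preadditive.comp_nsmul, Category.comp_id], hB, comp_zero]
  exact AddMonoid.addOrderOf_eq_one_iff.1 (Nat.dvd_one.1 (hab ▸ Nat.dvd_gcd
    (addOrderOf_dvd_of_nsmul_eq_zero h1) (addOrderOf_dvd_of_nsmul_eq_zero h2)))

/-- the target of the embedding of a sheaf killed by `m` -/
theorem hasGood [CompactSpace X] [QuasiSeparatedSpace X]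
    (hb : ∀ (X' : Scheme.{u}) (p : X' ⟶ X) [IsFinite p] [PreservesFiniteLimits (EtCoh.pull (pullback.fst p h))]
      (ℓ : ℕ), ℓ.Prime → ℓ ∈ L → ∀ ν : ℕ,
      Function.Injective (EtCore.Hpull (pullback.fst p h) (EtCoh.const X' (ZMod (ℓ ^ ν))) 0) ∧
      ∀ i ≤ n, Function.Surjective (EtCore.Hpull (pullback.fst p h) (EtCoh.const X' (ZMod (ℓ ^ ν))) i)) :
    HasGood h L n := by
  intro m hm F hF hFm
  classical
  obtain ⟨r, X', f, hf, -, M, iM, fM, φ, hφ⟩ := EtEmbFin.exists_embedding hF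
  choose ι fι p hp e he using fun i => AddCommGroup.equiv_directSum_zmod_of_finite (M i)
  let σ := fun i => (he i).some
  let J := Σ i : Fin r, {a : ι i // p i a ∈ L}
  letI : ∀ i, Fintype (ι i) := fι
  letI : Fintype J := Fintype.ofFinite J
  let Φ := fun i => (constantSheaf (X' i).smallEtaleTopology AddCommGrpCat.{u + 1} ⋙ EtCoh.push (f i))
  haveI : ∀ i, (Φ i).Additive := fun i => by
    haveI := EtMV.jcont_etale (𝟙 (X' i))
    haveI : (constantSheaf (X' i).smallEtaleTopology AddCommGrpCat.{u + 1}).IsLeftAdjoint :=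
      (EtCore.constAdj (X' i)).isLeftAdjoint
    haveI : (constantSheaf (X' i).smallEtaleTopology AddCommGrpCat.{u + 1}).Additive :=
      haveI := preservesBinaryBiproducts_of_preservesBinaryCoproducts
        (constantSheaf (X' i).smallEtaleTopology AddCommGrpCat.{u + 1})
      Functor.additive_of_preservesBinaryBiproducts _
    infer_instance
  let G : J → EtCoh.Ab X := fun j => (Φ j.1).obj (AddCommGrpCat.of (ULift.{u + 1} (ZMod (p j.1 j.2.1 ^ e j.1 j.2.1))))
  let pr : ∀ i (a : ι i), AddCommGrpCat.of (ULift.{u + 1} (M i)) ⟶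
      AddCommGrpCat.of (ULift.{u + 1} (ZMod (p i a ^ e i a))) := fun i a =>
    AddCommGrpCat.ofHom (AddEquiv.ulift.symm.toAddMonoidHom.comp
      ((DFinsupp.evalAddMonoidHom (β := fun a => ZMod (p i a ^ e i a)) a).comp
        ((σ i).toAddMonoidHom.comp AddEquiv.ulift.toAddMonoidHom)))
  let inc : ∀ i (a : ι i), AddCommGrpCat.of (ULift.{u + 1} (ZMod (p i a ^ e i a))) ⟶
      AddCommGrpCat.of (ULift.{u + 1} (M i)) := fun i a =>
    AddCommGrpCat.ofHom (AddEquiv.ulift.symm.toAddMonoidHom.comp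
      ((σ i).symm.toAddMonoidHom.comp ((DirectSum.of (fun a => ZMod (p i a ^ e i a)) a).comp
        AddEquiv.ulift.toAddMonoidHom)))
  have hsum : ∀ i, ∑ a, pr i a ≫ inc i a = 𝟙 (AddCommGrpCat.of (ULift.{u + 1} (M i))) := by
    intro i
    apply AddCommGrpCat.hom_ext
    refine AddMonoidHom.ext fun x => ?_
    rw [show (∑ a, pr i a ≫ inc i a).hom = ∑ a, (pr i a ≫ inc i a).hom from map_sum AddCommGrpCat.homAddEquiv _ _,
      AddMonoidHom.finsetSum_apply]
    show ∑ a, ULift.up ((σ i).symm (DirectSum.of (fun a => ZMod (p i a ^ e i a)) a ((σ i x.down) a))) = x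
    apply ULift.ext
    refine ((map_sum (AddEquiv.ulift : ULift.{u + 1} (M i) ≃+ M i).toAddMonoidHom _ _).trans ?_)
    show ∑ a, (σ i).symm (DirectSum.of (fun a => ZMod (p i a ^ e i a)) a _) = _
    rw [← map_sum]
    exact (congrArg (σ i).symm (DirectSum.sum_univ_of (σ i x.down))).trans ((σ i).symm_apply_apply _)
  let ψ : F ⟶ ⨁ G := biproduct.lift fun j => (φ ≫ biproduct.π _ j.1) ≫ (Φ j.1).map (pr j.1 j.2.1)
  have hkd : ∀ i (a : ι i), Kd (p i a ^ e i a) ((Φ i).obj (AddCommGrpCat.of (ULift.{u + 1} (ZMod (p i a ^ e i a))))) :=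
    fun i a => EtAcycX.kd_obj_of_group (fun z => by rw [nsmul_eq_mul, ZMod.natCast_self, zero_mul]) (Φ i)
  refine ⟨⨁ G, ψ, ?_, Good.biproduct h G fun j => ?_,
    kd_biproduct L G (fun j => p j.1 j.2.1 ^ e j.1 j.2.1)
      (fun j => ⟨pow_pos (hp _ _).pos _, fun q hq hd => by
        rw [(Nat.prime_dvd_prime_iff_eq hq (hp _ _)).1 (hq.dvd_of_dvd_pow hd)]; exact j.2.2⟩) fun j => hkd _ _⟩
  · haveI := hφ
    refine Preadditive.mono_of_cancel_zero _ fun {T} t ht => ?_
    have hcomp : ∀ i (a : ι i), t ≫ (φ ≫ biproduct.π _ i) ≫ (Φ i).map (pr i a) = 0 := by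
      intro i a
      by_cases ha : p i a ∈ L
      · have := congrArg (· ≫ biproduct.π G ⟨i, a, ha⟩) ht
        simpa [ψ, Category.assoc] using this
      · rw [show (φ ≫ biproduct.π _ i) ≫ (Φ i).map (pr i a) = 0 from
          eq_zero_of_coprime (a := m) (b := p i a ^ e i a) (Nat.Coprime.pow_right _ (Nat.coprime_comm.1
            ((hp i a).coprime_iff_not_dvd.2 fun hd => ha (hm.2 _ (hp i a) hd)))) hFm (hkd i a) _, comp_zero]
    rw [← cancel_mono φ, zero_comp]
    refine biproduct.hom_ext _ _ fun i => ?_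
    rw [zero_comp]
    have e1 : (t ≫ φ) ≫ biproduct.π _ i = ((t ≫ φ) ≫ biproduct.π _ i) ≫ (Φ i).map (∑ a, pr i a ≫ inc i a) := by
      rw [hsum i]
      erw [(Φ i).map_id, Category.comp_id]
    rw [e1, Functor.map_sum, Preadditive.comp_sum]
    refine Finset.sum_eq_zero fun a _ => ?_
    rw [Functor.map_comp]
    have := hcomp i a
    simp only [Category.assoc] at this ⊢
    rw [reassoc_of% this, zero_comp]
  · haveI := hf j.1
    haveI := EtCohDesc.pull_preservesFiniteLimits (pullback.fst (f j.1) h)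
    exact good_push h (f j.1) n (ZMod (p j.1 j.2.1 ^ e j.1 j.2.1)) (hb _ (f j.1) _ (hp _ _) j.2.2 _)

variable [CompactSpace X] [QuasiSeparatedSpace X] [CompactSpace Y] [QuasiSeparatedSpace Y]

theorem isTorsion_of_isLTorsion {F : EtCoh.Ab X} (hF : EtAcyc.IsLTorsion L F) : EtCoh.IsTorsion F := fun U s x => by
  obtain ⟨V, g, m, hv, hm, hms⟩ := hF U s x
  exact ⟨V, g, hv, isOfFinAddOrder_iff_nsmul_eq_zero.2 ⟨m, hm.1, hms⟩⟩

theorem exists_colimit {F : EtCoh.Ab X} (hF : EtAcyc.IsLTorsion L F) :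
    ∃ (J : Type (u + 1)) (_ : SmallCategory J) (_ : IsFiltered J) (D : J ⥤ EtCoh.Ab X) (i : ∀ j, D.obj j ⟶ F)
      (w : ∀ {a b : J} (f : a ⟶ b), D.map f ≫ i b = i a),
      Nonempty (IsColimit (Cocone.mk F { app := i, naturality := fun a b f => (w f).trans (Category.comp_id (i a)).symm })) ∧
        ∀ j, EtPBC.IsConstructible (D.obj j) ∧ ∃ m, EtAcyc.PrimesIn L m ∧ Kd m (D.obj j) := by
  let Q : EtCoh.Ab X → Prop := fun G => ∃ m, EtAcyc.PrimesIn L m ∧ Kd m G
  obtain ⟨hfil, ⟨hc⟩, hD⟩ := EtCons.nonempty_isColimit_consCocone Q F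
    (fun {A B} i ⟨m, hm, hk⟩ => ⟨m, hm, Kd.of_epi i.hom hk⟩)
    (fun {A B} _ _ ⟨a, ha, hA⟩ ⟨b, hb, hB⟩ => ⟨a * b, (EtAcycX.exponents L).mul ha hb, by
      unfold Kd at *
      rw [← biprod.total, nsmul_add,
        show (a * b) • (biprod.fst ≫ biprod.inl : A ⊞ B ⟶ A ⊞ B) = biprod.fst ≫ (b • (a • 𝟙 A)) ≫ biprod.inl by
          rw [← mul_nsmul, Preadditive.nsmul_comp, Category.id_comp, Preadditive.comp_nsmul],
        show (a * b) • (biprod.snd ≫ biprod.inr : A ⊞ B ⟶ A ⊞ B) = biprod.snd ≫ (a • (b • 𝟙 B)) ≫ biprod.inr by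
          rw [← mul_nsmul', Preadditive.nsmul_comp, Category.id_comp, Preadditive.comp_nsmul],
        hA, hB, smul_zero, smul_zero, zero_comp, comp_zero, zero_comp, comp_zero, add_zero]⟩)
    (fun {A B} φ _ _ ⟨m, hm, hk⟩ => ⟨m, hm, Kd.of_epi (cokernel.π φ) hk⟩)
    (EtCons.exists_isConstructible.elim fun G hG => ⟨kernel (𝟙 G),
      (EtCons.isConstructible_kernel_cokernel (𝟙 G) hG hG).1, 1, (EtAcycX.exponents L).one,
      (isZero_kernel_of_mono (𝟙 G)).eq_of_src _ _⟩)
    (isTorsion_of_isLTorsion L hF) (fun U t x => by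
      obtain ⟨V, g, m, ⟨v, hv⟩, hm, hms⟩ := hF U t x
      obtain ⟨_, ⟨O, hO, rfl⟩, hvO, -⟩ := V.left.isBasis_affineOpens.exists_subset_of_mem_open
        (show v ∈ (⊤ : V.left.Opens) from trivial) isOpen_univ
      let W := EtMV.sub V O
      haveI : IsAffine W.left := hO
      let k := EtMV.subι V O ≫ g
      have hk : m • F.obj.map k.op t = 0 := by
        show m • F.obj.map (EtMV.subι V O ≫ g).op t = 0
        rw [op_comp, Functor.map_comp, ConcreteCategory.comp_apply, ← map_nsmul, hms, map_zero]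
      exact ⟨W, k, ⟨(⟨v, hvO⟩ : Scheme.Opens.toScheme O), hv⟩, _, EtCons.isConstructible_extConst W m hm.1,
        ⟨m, hm, EtAcycX.kd_extConst W m⟩, EtCons.extHom W m _ hk, EtCons.gen W m, EtCons.extHom_gen W m _ hk⟩)
  exact ⟨_, inferInstance, hfil, EtCons.consDiagram Q F, (EtCons.consCocone Q F).ι.app,
    fun f => (EtCons.consCocone Q F).w f, ⟨hc⟩, hD⟩

theorem injective_of_pieces {J : Type (u + 1)} [SmallCategory J] [IsFiltered J] {D : J ⥤ EtCoh.Ab X} {c : Cocone D}
    (hc : IsColimit c) (q : ℕ) (ha : ∀ j, Function.Injective (EtCore.Hpull h (D.obj j) q)) :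
    Function.Injective (EtCore.Hpull h c.pt q) := by
  haveI := EtColimH.preservesColimitsOfShape_HF (X := X) q J
  haveI := EtColimH.preservesColimitsOfShape_HF (X := Y) q J
  haveI := (EtCoh.pullPushAdj h).leftAdjoint_preservesColimits.{u + 1, u + 1}
  refine (injective_iff_map_eq_zero _).2 fun x hx => ?_
  obtain ⟨a, xa, rfl⟩ := Concrete.isColimit_exists_rep _ (isColimitOfPreserves (EtCoh.HF X q) hc) x
  have h1 : (EtCoh.HF Y q).map ((EtCoh.pull h).map (c.ι.app a)) (EtCore.Hpull h _ q xa) =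
      (EtCoh.HF Y q).map ((EtCoh.pull h).map (c.ι.app a)) 0 :=
    ((Hpull_comp_mk₀ h xa (c.ι.app a)).symm.trans hx).trans (map_zero _).symm
  obtain ⟨b, i, i', hb⟩ := Concrete.isColimit_exists_of_rep_eq _
    (isColimitOfPreserves (EtCoh.HF Y q) (isColimitOfPreserves (EtCoh.pull h) hc))
    (i := a) (j := a) (EtCore.Hpull h _ q xa) 0 h1
  have h2 : EtCore.Hpull h (D.obj b) q ((EtCoh.HF X q).map (D.map i) xa) = 0 :=
    (Hpull_comp_mk₀ h xa _).trans (hb.trans (map_zero _))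
  show (EtCoh.HF X q).map (c.ι.app a) xa = 0
  rw [← c.w i, Functor.map_comp, ConcreteCategory.comp_apply, (injective_iff_map_eq_zero _).1 (ha b) _ h2, map_zero]

theorem surjective_of_pieces {J : Type (u + 1)} [SmallCategory J] [IsFiltered J] {D : J ⥤ EtCoh.Ab X} {c : Cocone D}
    (hc : IsColimit c) (q : ℕ) (ha : ∀ j, Function.Surjective (EtCore.Hpull h (D.obj j) q)) :
    Function.Surjective (EtCore.Hpull h c.pt q) := fun y => by
  haveI := EtColimH.preservesColimitsOfShape_HF (X := Y) q J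
  haveI := (EtCoh.pullPushAdj h).leftAdjoint_preservesColimits.{u + 1, u + 1}
  obtain ⟨a, ya, rfl⟩ := Concrete.isColimit_exists_rep _
    (isColimitOfPreserves (EtCoh.HF Y q) (isColimitOfPreserves (EtCoh.pull h) hc)) y
  obtain ⟨x, rfl⟩ := ha a ya
  exact ⟨(EtCoh.HF X q).map (c.ι.app a) x, Hpull_comp_mk₀ h x _⟩

variable {h L n} (hg : HasGood h L n)

include hg

theorem injective_zero {F : EtCoh.Ab X} (hF : EtAcyc.IsLTorsion L F) : Function.Injective (EtCore.Hpull h F 0) := by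
  obtain ⟨J, _, _, D, i, w, ⟨hc⟩, hD⟩ := exists_colimit L hF
  refine injective_of_pieces h hc 0 fun j => (injective_iff_map_eq_zero _).2 fun x hx => ?_
  obtain ⟨hcons, m, hm, hk⟩ := hD j
  obtain ⟨G, φ, hφ, hG, -⟩ := hg m hm _ hcons hk
  obtain ⟨a, rfl⟩ := (Ext.mk₀_bijective _ _).2 x
  have h1 : Ext.comp (Ext.mk₀ a) (Ext.mk₀ φ) (add_zero 0) = (0 : EtCoh.H X G 0) :=
    (injective_iff_map_eq_zero _).1 hG.1 _ ((Hpull_comp_mk₀ h _ φ).trans (by rw [hx, Ext.zero_comp]))
  rw [Ext.mk₀_comp_mk₀] at h1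
  have h2 : a ≫ φ = 0 := (Ext.mk₀_bijective _ _).1 (h1.trans (Ext.mk₀_zero _ _).symm)
  rw [zero_of_comp_mono φ h2, Ext.mk₀_zero]

theorem surjective_step (q : ℕ) (hq : q ≤ n)
    (hinj : ∀ F : EtCoh.Ab X, EtAcyc.IsLTorsion L F → Function.Injective (EtCore.Hpull h F q))
    (hprev : ∀ q', q' + 1 = q → ∀ F : EtCoh.Ab X, EtAcyc.IsLTorsion L F → Function.Surjective (EtCore.Hpull h F q'))
    {F : EtCoh.Ab X} (hF : EtAcyc.IsLTorsion L F) : Function.Surjective (EtCore.Hpull h F q) := by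
  obtain ⟨J, _, _, D, i, w, ⟨hc⟩, hD⟩ := exists_colimit L hF
  refine surjective_of_pieces h hc q fun j y => ?_
  obtain ⟨hcons, m, hm, hk⟩ := hD j
  obtain ⟨G, φ, hφ, hG, hGt⟩ := hg m hm _ hcons hk
  let S : ShortComplex (EtCoh.Ab X) := ShortComplex.mk φ (cokernel.π φ) (cokernel.condition φ)
  have hS : S.ShortExact := { exact := ShortComplex.exact_of_g_is_cokernel _ (cokernelIsCokernel _) }
  have hQ : EtAcyc.IsLTorsion L S.X₃ := EtAcycX.isLTorsion_of_epi L (cokernel.π φ) hGt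
  obtain ⟨x, hx⟩ := hG.2 q hq (Ext.comp y (Ext.mk₀ (S.map (EtCoh.pull h)).f) (add_zero q))
  have h0 : Ext.comp x (Ext.mk₀ S.g) (add_zero q) = 0 := by
    refine (injective_iff_map_eq_zero _).1 (hinj _ hQ) _ ((Hpull_comp_mk₀ h x S.g).trans ?_)
    rw [hx, Ext.comp_assoc_of_second_deg_zero, Ext.mk₀_comp_mk₀]
    rw [show (S.map (EtCoh.pull h)).f ≫ (EtCoh.pull h).map S.g = 0 from (S.map (EtCoh.pull h)).zero,
      Ext.mk₀_zero, Ext.comp_zero]
  obtain ⟨x', hx'⟩ := Ext.covariant_sequence_exact₂ (EtCoh.const X ℤ) hS x h0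
  let d : EtCoh.H Y ((EtCoh.pull h).obj (D.obj j)) q := y - EtCore.Hpull h _ q x'
  have hd : Ext.comp d (Ext.mk₀ (S.map (EtCoh.pull h)).f) (add_zero q) = 0 := by
    show Ext.comp (y - EtCore.Hpull h (D.obj j) q x') _ _ = 0
    rw [show Ext.comp (y - EtCore.Hpull h (D.obj j) q x') (Ext.mk₀ (S.map (EtCoh.pull h)).f) (add_zero q) =
      Ext.comp y (Ext.mk₀ (S.map (EtCoh.pull h)).f) (add_zero q) -
        Ext.comp (EtCore.Hpull h (D.obj j) q x') (Ext.mk₀ (S.map (EtCoh.pull h)).f) (add_zero q) from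
      map_sub ((Ext.mk₀ (S.map (EtCoh.pull h)).f).postcomp (EtCoh.const Y ℤ) (add_zero q)) y _,
      ← hx, sub_eq_zero, ← hx']
    exact Hpull_comp_mk₀ h x' S.f
  rcases q with _ | q
  · haveI := (hS.map_of_exact (EtCoh.pull h)).mono_f
    obtain ⟨a, ha⟩ := (Ext.mk₀_bijective _ _).2 d
    rw [← ha, Ext.mk₀_comp_mk₀] at hd
    have h2 : a ≫ (S.map (EtCoh.pull h)).f = 0 := (Ext.mk₀_bijective _ _).1 (hd.trans (Ext.mk₀_zero _ _).symm)
    have h3 : d = 0 := by
      rw [← ha, zero_of_comp_mono (S.map (EtCoh.pull h)).f h2]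
      exact Ext.mk₀_zero _ _
    exact ⟨x', (sub_eq_zero.1 h3).symm⟩
  · obtain ⟨z, hz⟩ := Ext.covariant_sequence_exact₁ (EtCoh.const Y ℤ) (hS.map_of_exact (EtCoh.pull h)) d hd rfl
    obtain ⟨z', rfl⟩ := hprev q rfl _ hQ z
    refine ⟨x' + Ext.comp z' hS.extClass rfl, ?_⟩
    rw [map_add]
    refine (congrArg (EtCore.Hpull h (D.obj j) (q + 1) x' + ·)
      ((Hpull_comp_extClass h hS z' rfl).trans hz)).trans ?_
    exact add_sub_cancel _ _

theorem injective_step (q : ℕ)
    (hs : ∀ F : EtCoh.Ab X, EtAcyc.IsLTorsion L F → Function.Surjective (EtCore.Hpull h F q))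
    (hi : ∀ F : EtCoh.Ab X, EtAcyc.IsLTorsion L F → Function.Injective (EtCore.Hpull h F q))
    {F : EtCoh.Ab X} (hF : EtAcyc.IsLTorsion L F) : Function.Injective (EtCore.Hpull h F (q + 1)) := by
  obtain ⟨T, e, he, hcT, hT⟩ := EtAcycX.exists_hullL L hF
  let S : ShortComplex (EtCoh.Ab X) := ShortComplex.mk e (cokernel.π e) (cokernel.condition e)
  have hS : S.ShortExact := { exact := ShortComplex.exact_of_g_is_cokernel _ (cokernelIsCokernel _) }
  have hQ : EtAcyc.IsLTorsion L S.X₃ := EtAcycX.isLTorsion_of_epi L (cokernel.π e) hT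
  have hvan : Subsingleton (EtCoh.H X S.X₂ (q + 1)) := EtAcycX.subsingleton_H_of_cac T hcT q
  refine (injective_iff_map_eq_zero _).2 fun x hx => ?_
  obtain ⟨z, hz⟩ := Ext.covariant_sequence_exact₁ (EtCoh.const X ℤ) hS x (@Subsingleton.elim _ hvan _ _) rfl
  subst hz
  have hx' := (Hpull_comp_extClass h hS z rfl).symm.trans hx
  obtain ⟨v, hv⟩ := Ext.covariant_sequence_exact₃ (EtCoh.const Y ℤ) (hS.map_of_exact (EtCoh.pull h))
    (EtCore.Hpull h S.X₃ q z) rfl hx'
  obtain ⟨v', rfl⟩ := hs T hT v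
  have hzv : Ext.comp v' (Ext.mk₀ S.g) (add_zero q) = z := (hi S.X₃ hQ) ((Hpull_comp_mk₀ h v' S.g).trans hv)
  rw [← hzv]
  exact (Ext.comp_assoc _ _ _ (add_zero q) (zero_add 1) (by omega)).trans
    ((congrArg (fun t => Ext.comp v' t rfl) hS.comp_extClass).trans (Ext.comp_zero _ _ _ _ _))

theorem compare (q : ℕ) :
    (q ≤ n → ∀ F : EtCoh.Ab X, EtAcyc.IsLTorsion L F → Function.Surjective (EtCore.Hpull h F q)) ∧
      (q ≤ n + 1 → ∀ F : EtCoh.Ab X, EtAcyc.IsLTorsion L F → Function.Injective (EtCore.Hpull h F q)) := by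
  induction q with
  | zero =>
    exact ⟨fun hq F hF => surjective_step hg 0 hq (fun G hG => injective_zero hg hG) (fun q' e => by omega) hF,
      fun _ F hF => injective_zero hg hF⟩
  | succ q ih =>
    have hi : q + 1 ≤ n + 1 → ∀ F : EtCoh.Ab X, EtAcyc.IsLTorsion L F →
        Function.Injective (EtCore.Hpull h F (q + 1)) := fun hq F hF =>
      injective_step hg q (ih.1 (by omega)) (ih.2 (by omega)) hF
    exact ⟨fun hq F hF => surjective_step hg (q + 1) hq (hi (by omega)) (fun q' e => by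
      obtain rfl : q' = q := by omega
      exact ih.1 (by omega)) hF, hi⟩

theorem compN : EtAcyc.CompN h L n := fun F hF _ =>
  ⟨fun q hq => ⟨(compare hg q).2 (by omega) F hF, (compare hg q).1 hq F hF⟩, (compare hg (n + 1)).2 le_rfl F hF⟩

end Groth.Agent.EtFinCrit
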