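import Groth.Agent.EtFinCrit.Main
import Groth.Agent.EtAcycX.LocFib
import Groth.Agent.EtAcycX.MinusOne
import Mathlib.AlgebraicGeometry.ZariskisMainTheorem

/-!
Acyclicity tested on quasi-finite schemes with constant coefficients.
-/

set_option autoImplicit false
set_option backward.isDefEq.respectTransparency false
set_option backward.isDefEq.respectTransparency.types false
set_option linter.unusedSectionVars false
set_option linter.auxLemma false
set_option linter.overlappingInstances false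
set_option linter.style.haveILetI false
set_option maxHeartbeats 1000000

universe u

open CategoryTheory CategoryTheory.Limits CategoryTheory.Abelian AlgebraicGeometry Opposite

noncomputable section

namespace Groth.Agent.EtFinCrit

attribute [local instance 100000] EtCoh.H._proof_1 Groth.Agent.EtMV.hext
attribute [local instance 200000] Groth.Agent.EtMV.hextAb
attribute [local instance 300000] CategoryTheory.Preadditive.preadditiveHasZeroMorphisms
  CategoryTheory.Abelian.toPreadditive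

open EtAcycX (Θ Θ_natural σ_cW)
open EtMV (T_mk₀ P σ σ_comp σ_eq)
open EtLimit (fstE)

section Local

variable {Z X : Scheme.{u}} (g' : Z ⟶ X) (L : Set ℕ) (n : ℕ)

/-- comparison on small enough étale neighbourhoods -/
def LocComp : Prop :=
  ∀ (W : X.Etale) (w : W.left), ∃ (W₁ : X.Etale) (a : W₁ ⟶ W),
    w ∈ Set.range a.left ∧ EtAcyc.CompN (fstE g' W₁) L n

theorem compN_of_locComp (hl : LocComp g' L n) : EtAcyc.CompN g' L n := by
  intro F hF _
  have hΘ : ∀ W, EtAcyc.CompN (fstE g' W) L n → ∀ k ≤ n, Function.Bijective (Θ g' W F k) := fun W hW =>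
    (EtAcycX.Θ_bijective_of_compN g' W hW F hF).1
  let η := (EtCoh.pullPushAdj g').unit.app F
  have key : ∀ (W : X.Etale) (φ : (P X).obj W ⟶ F),
      σ (EtAcycX.cW g' W ≫ (EtCoh.pull g').map φ) = η.hom.app (op W) (σ φ) := fun W φ => by
    rw [σ_comp, σ_cW, EtMV.r_natural, ← σ_eq, EtMV.r, op_id, CategoryTheory.Functor.map_id]
    rfl
  have hbij : ∀ W, EtAcyc.CompN (fstE g' W) L n → Function.Bijective (η.hom.app (op W)) := by
    intro W hW
    refine ⟨fun s t hst => ?_, fun y => ?_⟩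
    · obtain ⟨φ, rfl⟩ := σ.surjective s
      obtain ⟨φ', rfl⟩ := σ.surjective t
      rw [← key, ← key] at hst
      refine congrArg σ ((Ext.mk₀_bijective _ _).1 ((hΘ W hW 0 (Nat.zero_le n)).1 ?_))
      rw [T_mk₀, T_mk₀, σ.injective hst]
    · obtain ⟨x, hx⟩ := (hΘ W hW 0 (Nat.zero_le n)).2 (Ext.mk₀ (σ.symm y))
      obtain ⟨φ, rfl⟩ := (Ext.mk₀_bijective _ _).2 x
      rw [T_mk₀] at hx
      refine ⟨σ φ, ?_⟩
      rw [← key, (Ext.mk₀_bijective _ _).1 hx, Equiv.apply_symm_apply]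
  haveI : Presheaf.IsLocallyInjective X.smallEtaleTopology η.hom := ⟨fun {U} s t hst => (EtFLC.mem_iff _).2 fun w => by
    obtain ⟨W', a, ⟨w', hw'⟩, hW'⟩ := hl U.unop w
    refine ⟨W', a, w', (hbij W' hW').1 ?_, hw'⟩
    rw [NatTrans.naturality_apply, NatTrans.naturality_apply, hst]⟩
  haveI : Sheaf.IsLocallySurjective η := ⟨fun {U} s => (EtFLC.mem_iff _).2 fun w => by
    obtain ⟨W', a, ⟨w', hw'⟩, hW'⟩ := hl U w
    exact ⟨W', a, w', (hbij W' hW').2 _, hw'⟩⟩
  haveI : Mono η := Sheaf.mono_of_isLocallyInjective η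
  haveI : Epi η := Sheaf.epi_of_isLocallySurjective η
  haveI : IsIso η := isIso_of_mono_of_epi η
  refine EtAcycX.compN_of_unit g' F n fun q hqn => ?_
  refine EtAcycX.isZero_rpush_of_locZero g' n _ (fun k hk W x w => ?_) q hqn
  obtain ⟨W₁, a₁, ⟨w₁, hw₁⟩, hW₁⟩ := hl W w
  obtain ⟨x', hx'⟩ := (hΘ W₁ hW₁ (k + 1) hk).2 ((Ext.mk₀ ((P Z).map ((EtCoh.bc g').map a₁))).comp x (zero_add (k + 1)))
  obtain ⟨W', a, ⟨w', hw'⟩, ha⟩ := EtAcycX.locZero_all k F W₁ x' w₁
  refine ⟨W', a ≫ a₁, ⟨w', ?_⟩, ?_⟩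
  · show (a.left ≫ a₁.left) w' = w
    rw [Scheme.Hom.comp_apply, hw', hw₁]
  · rw [Functor.map_comp, Functor.map_comp, ← Ext.mk₀_comp_mk₀_assoc, ← hx', Θ_natural, ha, map_zero]

end Local

section Finite

variable {X Y E P' : Scheme.{u}} (h : Y ⟶ X) (p : E ⟶ X) [IsFinite p] (f₁ : P' ⟶ E) (pY : P' ⟶ Y)

theorem compN_of_finite {L : Set ℕ} {n : ℕ} [CompactSpace X] [QuasiSeparatedSpace X]
    (sq : IsPullback f₁ pY p h) (hh : EtAcyc.CompN h L n) : EtAcyc.CompN f₁ L n := by
  intro F hF _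
  haveI : IsFinite pY := MorphismProperty.of_isPullback (P := @IsFinite) sq ‹_›
  haveI := EtCohDesc.pull_preservesFiniteLimits h
  haveI := EtCohDesc.pull_preservesFiniteLimits p
  haveI := EtCohDesc.pull_preservesFiniteLimits pY
  haveI : CompactSpace E := QuasiCompact.compactSpace_of_compactSpace p
  haveI : QuasiSeparatedSpace E := quasiSeparatedSpace_of_quasiSeparated p
  haveI : IsIso (EtCoh.baseChange0 p h pY f₁ sq.w F) := EtIntegral.isIso_baseChange0 p h pY f₁ sq F
  have e1 : ∀ k, Function.Bijective (EtLim.HofPush p F k) :=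
    fun k => EtMV.HofPush_bijective p F (fun q => EtIntegral.Rpush_succ_isZero p F q) k
  have e2 : ∀ k, Function.Bijective (EtLim.HofPush pY ((EtCoh.pull f₁).obj F) k) :=
    fun k => EtMV.HofPush_bijective _ _ (fun q => EtIntegral.Rpush_succ_isZero _ _ q) k
  obtain ⟨hb, hi⟩ := hh _ (EtAcycX.isLTorsion_push (p := p) hF)
  refine ⟨fun k hk => EtAcycX.Hpull_bijective_of_edge h p f₁ pY sq.w F k (e1 k) (e2 k) (hb k hk), fun a a' ha => ?_⟩
  obtain ⟨z, rfl⟩ := (e1 (n + 1)).2 a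
  obtain ⟨z', rfl⟩ := (e1 (n + 1)).2 a'
  rw [EtAcycX.Hpull_HofPush p h pY f₁ sq.w F, EtAcycX.Hpull_HofPush p h pY f₁ sq.w F] at ha
  exact congrArg _ (hi (((ConcreteCategory.isIso_iff_bijective
    ((EtCoh.HF Y (n + 1)).map (EtCoh.baseChange0 p h pY f₁ sq.w F))).1 inferInstance).1 ((e2 (n + 1)).1 ha)))

end Finite

variable {X Y : Scheme.{u}} (g : X ⟶ Y)

theorem compN_of_isPullback {E P' : Scheme.{u}} {a : E ⟶ Y} {f₁ : P' ⟶ E} {f₂ : P' ⟶ X}
    (sq : IsPullback f₁ f₂ a g) {L : Set ℕ} {n : ℕ} (h : EtAcyc.CompN (pullback.fst a g) L n) :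
    EtAcyc.CompN f₁ L n := by
  rw [← sq.isoPullback_hom_fst]
  exact EtAcycX.compN_congr _ _ h

theorem compN_fst_of_isPullback {E P' : Scheme.{u}} {a : E ⟶ Y} {f₁ : P' ⟶ E} {f₂ : P' ⟶ X}
    (sq : IsPullback f₁ f₂ a g) {L : Set ℕ} {n : ℕ} (h : EtAcyc.CompN f₁ L n) :
    EtAcyc.CompN (pullback.fst a g) L n := by
  rw [← sq.isoPullback_inv_fst]
  exact EtAcycX.compN_congr _ _ h

/-- base change of an acyclic morphism along a locally quasi-finite morphism -/
theorem compN_bc_lqf {Y' : Scheme.{u}} (i : Y' ⟶ Y) [LocallyQuasiFinite i] [LocallyOfFiniteType i]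
    {L : Set ℕ} {n : ℕ} (hg : EtAcyc.IsAcyclicN g L n) : EtAcyc.CompN (pullback.snd g i) L n := by
  refine compN_of_locComp _ L n fun W₀ w => ?_
  obtain ⟨_, ⟨O, hO, rfl⟩, hwO, -⟩ := W₀.left.isBasis_affineOpens.exists_subset_of_mem_open
    (show w ∈ (⊤ : W₀.left.Opens) from trivial) isOpen_univ
  let W := EtMV.sub W₀ O
  let f : W.left ⟶ Y := W.hom ≫ i
  haveI : IsAffine W.left := hO
  haveI : Etale W.hom := W.prop
  haveI := EtMV.lqf_of_etale W.hom
  haveI : IsSeparated f := inferInstance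
  haveI : LocallyOfFiniteType f := inferInstance
  haveI : LocallyQuasiFinite f := inferInstance
  let x : W.left := (⟨w, hwO⟩ : Scheme.Opens.toScheme O)
  have hx : f.QuasiFiniteAt x :=
    Scheme.Hom.mem_quasiFiniteLocus.1 ((Scheme.Hom.quasiFiniteLocus_eq_top (f := f)).ge trivial)
  obtain ⟨U, u, hu, -, V₀, _, v, -, hfin, hv⟩ := exists_etale_isCompl_of_quasiFiniteAt f rfl hx
  let e : V₀.toScheme ⟶ U := V₀.ι ≫ pullback.snd f u
  haveI : IsFinite e := hfin
  obtain ⟨_, ⟨U', hU', rfl⟩, hvU, -⟩ := U.isBasis_affineOpens.exists_subset_of_mem_open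
    (show e v ∈ (⊤ : U.Opens) from trivial) isOpen_univ
  haveI : IsAffine (Scheme.Opens.toScheme U') := hU'
  let p := pullback.snd e (Scheme.Opens.ι U')
  haveI : IsFinite p := inferInstance
  let V' : Y.Etale := Scheme.Etale.mk (Scheme.Opens.ι U' ≫ u)
  let k : pullback e (Scheme.Opens.ι U') ⟶ W.left := pullback.fst e (Scheme.Opens.ι U') ≫ V₀.ι ≫ pullback.fst f u
  haveI : Etale k := inferInstance
  let W₁ : Y'.Etale := Scheme.Etale.mk (k ≫ W.hom)
  let a : W₁ ⟶ W := MorphismProperty.Over.homMk k rfl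
  obtain ⟨v', hv', -⟩ := Scheme.Pullback.exists_preimage_pullback (f := e) (g := Scheme.Opens.ι U') v
    (⟨e v, hvU⟩ : Scheme.Opens.toScheme U') rfl
  refine ⟨W₁, a ≫ EtMV.subι W₀ O, ⟨v', ?_⟩, ?_⟩
  · show (k ≫ (EtMV.subι W₀ O).left) v' = w
    simp only [k, Scheme.Hom.comp_apply, hv']
    rw [show pullback.fst f u (V₀.ι v) = x from hv]
    rfl
  have hw : W₁.hom ≫ i = p ≫ V'.hom := by
    show (k ≫ W.hom) ≫ i = pullback.snd e (Scheme.Opens.ι U') ≫ Scheme.Opens.ι U' ≫ u
    rw [← Category.assoc (pullback.snd e (Scheme.Opens.ι U')), ← pullback.condition]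
    simp only [k, e, Category.assoc]
    rw [← pullback.condition]
  have sq0 : IsPullback (pullback.fst W₁.hom (pullback.snd g i))
      (pullback.snd W₁.hom (pullback.snd g i) ≫ pullback.fst g i) (W₁.hom ≫ i) g :=
    ((IsPullback.of_hasPullback W₁.hom (pullback.snd g i)).flip.paste_horiz (IsPullback.of_hasPullback g i).flip.flip).flip
  let m : pullback (W₁.hom ≫ i) g ⟶ pullback V'.hom g :=
    pullback.lift (pullback.fst (W₁.hom ≫ i) g ≫ p) (pullback.snd (W₁.hom ≫ i) g)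
      (by rw [Category.assoc, ← hw, pullback.condition])
  have sq1 : IsPullback (pullback.fst (W₁.hom ≫ i) g) m p (EtAcyc.prj g V') := by
    refine (IsPullback.of_right (h₁₂ := pullback.snd V'.hom g) (v₁₃ := g) ?_ (pullback.lift_fst _ _ _)
      (IsPullback.of_hasPullback V'.hom g).flip).flip
    rw [pullback.lift_snd, ← hw]
    exact (IsPullback.of_hasPullback (W₁.hom ≫ i) g).flip
  refine compN_of_isPullback g sq0 ?_
  haveI : IsAffine V'.left := hU'
  exact compN_of_finite (EtAcyc.prj g V') p _ m sq1 (hg V')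

theorem injective_Hpull_zero {Z X : Scheme.{u}} (f : Z ⟶ X) [Surjective f] [PreservesFiniteLimits (EtCoh.pull f)]
    (G : EtCoh.Ab X) : Function.Injective (EtCore.Hpull f G 0) := by
  refine (injective_iff_map_eq_zero _).2 fun x hx => ?_
  obtain ⟨a, rfl⟩ := (Ext.mk₀_bijective _ _).2 x
  rw [EtAcycX.Hpull_apply, Ext.mapExactFunctor_mk₀, Ext.mk₀_comp_mk₀] at hx
  have h1 : (EtCore.pullConst f ℤ).inv ≫ (EtCoh.pull f).map a = 0 :=
    (Ext.mk₀_bijective _ _).1 (hx.trans (Ext.mk₀_zero _ _).symm)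
  have h2 : (EtCoh.pull f).map a = 0 := by rw [← cancel_epi (EtCore.pullConst f ℤ).inv, h1, comp_zero]
  haveI := EtMV.mono_unit_of_surjective f G
  have h3 : a ≫ (EtCoh.pullPushAdj f).unit.app G = 0 := by
    have := (EtCoh.pullPushAdj f).unit.naturality a
    simp only [Functor.id_map, Functor.comp_map] at this
    rw [this, h2, Functor.map_zero, comp_zero]
  rw [zero_of_comp_mono _ h3, Ext.mk₀_zero]

theorem surjective_Hpull_congr {A B S : Scheme.{u}} (θ : A ⟶ B) [IsIso θ] (f : B ⟶ S) (f' : A ⟶ S) (e : θ ≫ f = f')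
    [PreservesFiniteLimits (EtCoh.pull f)] [PreservesFiniteLimits (EtCoh.pull f')] (G : EtCoh.Ab S) (q : ℕ)
    (h : Function.Surjective (EtCore.Hpull f G q)) : Function.Surjective (EtCore.Hpull f' G q) := by
  haveI := EtCohDesc.pull_preservesFiniteLimits θ
  haveI := EtAcycX.isIso_ψh θ f f' e G
  have hv : Function.Bijective (EtCore.HpullVia θ f f' e G q) :=
    (EtAcycX.bijective_comp_iso (EtLimit.ψh θ f f' e G) q).comp (EtAcycX.Hpull_bijective_of_isIso θ _ q)
  rw [show ⇑(EtCore.Hpull f' G q) = ⇑(EtCore.HpullVia θ f f' e G q) ∘ ⇑(EtCore.Hpull f G q) from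
    funext fun x => (EtAcycX.Hpull_HpullVia θ f f' e G q x).symm]
  exact hv.2.comp h

theorem subsingleton_H_of_isZero {S : Scheme.{u}} {G : EtCoh.Ab S} (hG : IsZero G) (q : ℕ) :
    Subsingleton (EtCoh.H S G q) :=
  ⟨fun a b => by
    rw [← Ext.comp_mk₀_id a, ← Ext.comp_mk₀_id b, hG.eq_of_src (𝟙 G) 0, Ext.mk₀_zero, Ext.comp_zero, Ext.comp_zero]⟩

theorem isAcyclicN_of_const [QuasiCompact g] [QuasiSeparated g] [Surjective g] {L : Set ℕ} {n : ℕ}
    (h : ∀ (Y' : Scheme.{u}) (i : Y' ⟶ Y) [LocallyQuasiFinite i] [LocallyOfFiniteType i] (ℓ : ℕ), ℓ.Prime → ℓ ∈ L →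
      ∀ (ν : ℕ), 1 ≤ ν → ∀ [PreservesFiniteLimits (EtCoh.pull (pullback.snd g i))] (q : ℕ), q ≤ n →
        Function.Surjective (EtCore.Hpull (pullback.snd g i) (EtCoh.const Y' (ZMod (ℓ ^ ν))) q)) :
    EtAcyc.IsAcyclicN g L n := by
  have haff : ∀ V : Y.Etale, IsAffine V.left → EtAcyc.CompN (EtAcyc.prj g V) L n := by
    intro V hV
    haveI := hV
    haveI : Etale V.hom := V.prop
    haveI := EtMV.lqf_of_etale V.hom
    haveI : QuasiCompact (EtAcyc.prj g V) := MorphismProperty.pullback_fst _ _ inferInstance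
    haveI : QuasiSeparated (EtAcyc.prj g V) := MorphismProperty.pullback_fst _ _ inferInstance
    haveI : Surjective (EtAcyc.prj g V) := MorphismProperty.pullback_fst _ _ inferInstance
    haveI : CompactSpace (pullback V.hom g : Scheme.{u}) := QuasiCompact.compactSpace_of_compactSpace (EtAcyc.prj g V)
    haveI : QuasiSeparatedSpace (pullback V.hom g : Scheme.{u}) := quasiSeparatedSpace_of_quasiSeparated (EtAcyc.prj g V)
    haveI := EtCohDesc.pull_preservesFiniteLimits (EtAcyc.prj g V)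
    refine compN (hasGood _ L n fun V' p _ _ ℓ hℓ hℓL ν => ?_)
    haveI : Surjective (pullback.fst p (EtAcyc.prj g V)) := MorphismProperty.pullback_fst _ _ inferInstance
    refine ⟨injective_Hpull_zero _ _, fun q hq => ?_⟩
    rcases Nat.eq_zero_or_pos ν with rfl | hν
    · haveI : Subsingleton (ZMod (ℓ ^ 0)) := by rw [pow_zero]; infer_instance
      haveI : Subsingleton (ULift.{u + 1} (ZMod (ℓ ^ 0))) := inferInstance
      have hz : IsZero ((EtCoh.pull (pullback.fst p (EtAcyc.prj g V))).obj (EtCoh.const V' (ZMod (ℓ ^ 0)))) :=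
        Functor.map_isZero _ (Functor.map_isZero _ (AddCommGrpCat.isZero_of_subsingleton _))
      intro y
      exact ⟨0, (subsingleton_H_of_isZero hz q).elim _ _⟩
    let i := p ≫ V.hom
    haveI : LocallyQuasiFinite i := inferInstance
    haveI : LocallyOfFiniteType i := inferInstance
    have sq : IsPullback (pullback.fst p (EtAcyc.prj g V)) (pullback.snd p (EtAcyc.prj g V) ≫ pullback.snd V.hom g) i g :=
      ((IsPullback.of_hasPullback p (EtAcyc.prj g V)).flip.paste_horiz (IsPullback.of_hasPullback V.hom g).flip).flip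
    haveI := EtCohDesc.pull_preservesFiniteLimits (pullback.snd g i)
    have e : sq.flip.isoPullback.hom ≫ pullback.snd g i = pullback.fst p (EtAcyc.prj g V) :=
      sq.flip.isoPullback_hom_snd
    exact surjective_Hpull_congr _ _ _ e _ q (h V' i ℓ hℓ hℓL ν hν q hq)
  intro V
  refine compN_of_locComp _ L n fun W w => ?_
  obtain ⟨W₁, a, hW₁, w₁, hw₁⟩ := EtColimH.exists_affine_nhd W w
  refine ⟨W₁, a, ⟨w₁, hw₁⟩, ?_⟩
  rw [show fstE (EtAcyc.prj g V) W₁ = (pullbackRightPullbackFstIso V.hom g W₁.hom).hom ≫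
    EtAcyc.prj g (EtAcycX.compEt V W₁) from (pullbackRightPullbackFstIso_hom_fst V.hom g W₁.hom).symm]
  exact EtAcycX.compN_congr _ _ (haff _ hW₁)

theorem surjective_of_isAcyclicN [QuasiCompact g] [QuasiSeparated g] {L : Set ℕ} (hL : ∃ ℓ ∈ L, ℓ.Prime) {n : ℕ}
    (hg : EtAcyc.IsAcyclicN g L n) : Function.Surjective g.base := by
  intro y
  obtain ⟨⟨z⟩, -⟩ := EtAcycX.geomFibresAcyclicN g L hL n hg y (SeparableClosure (Y.residueField y))
  refine ⟨pullback.fst g (EtAcyc.geomPt Y y (SeparableClosure (Y.residueField y))) z, ?_⟩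
  rw [← Scheme.Hom.comp_apply, pullback.condition, Scheme.Hom.comp_apply]
  exact Scheme.fromSpecResidueField_apply y _

end Groth.Agent.EtFinCrit
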